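import Cfsg.Agent.LeechMat.Elements
import Cfsg.Agent.SporadicStructure.PermChain
set_option linter.all false

/-!
Fast kernel checks for images of coded lattice vectors under integer matrices (packed arithmetic), and small facts on
`Co0`. No classification results are imported here.
-/

set_option autoImplicit false

namespace Cfsg.Agent.LeechPack.Core

open Cfsg Cfsg.Agent.LeechMat.Code Cfsg.Agent.LeechMat.Core Cfsg.Agent.LeechMat.Elements
  Cfsg.Agent.SporadicStructure.PermChain

theorem dig_testBit (a k r : ℕ) (hr : r < 5) : (dig a k).testBit r = a.testBit (5 * k + r) := by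
  unfold dig
  rw [show (32 : ℕ) = 2 ^ 5 from rfl, Nat.testBit_mod_two_pow, Nat.testBit_shiftRight]
  simp [hr]

theorem code_inj {a b : ℕ} (ha : a < 2 ^ 120) (hb : b < 2 ^ 120) (h : vec a = vec b) : a = b := by
  apply Nat.eq_of_testBit_eq
  intro i
  by_cases hi : i < 120
  · have h1 := congrFun h (pt (i / 5))
    change sdig _ (pos (pt (i / 5))) = sdig _ (pos (pt (i / 5))) at h1
    rw [pos_pt _ (show i / 5 < 24 by omega)] at h1
    have h2 : dig a (i / 5) = dig b (i / 5) := by
      unfold sdig at h1
      omega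
    have h3 : i = 5 * (i / 5) + i % 5 := by omega
    rw [h3, ← dig_testBit a _ _ (Nat.mod_lt _ (by norm_num)), ← dig_testBit b _ _ (Nat.mod_lt _ (by norm_num)), h2]
  · rw [Nat.testBit_eq_false_of_lt (ha.trans_le (Nat.pow_le_pow_right (by norm_num) (by omega))),
      Nat.testBit_eq_false_of_lt (hb.trans_le (Nat.pow_le_pow_right (by norm_num) (by omega)))]

/-- The matrix (columns `A`) maps the vector coded by `b` to `d` times the one coded by `y`. -/
def sends (d : ℕ) (A : List ℕ) (b y : ℕ) : Bool :=
  allTo (fun k => mvAt A b k == (d : ℤ) * sdig y k) 24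

theorem smul_eq_of_sends {d : ℕ} {A : List ℕ} (hd : d ≠ 0) (hA : A.length = 24) {g : Co0}
    (hg : ∀ x : leechLattice, mv A (x : GolayPt → ℤ) = (d : ℤ) • ((g • x : leechLattice) : GolayPt → ℤ))
    {b y : ℕ} (h : sends d A b y = true) (x z : leechLattice) (hx : (x : GolayPt → ℤ) = vec b)
    (hz : (z : GolayPt → ℤ) = vec y) : g • x = z := by
  apply Subtype.ext
  funext p
  have h1 := congrFun (hg x) p
  rw [hx, mv_vec hA] at h1
  unfold sends at h
  rw [allTo_iff] at h
  have h2 := h (pos p) (pos_lt p)
  rw [beq_iff_eq] at h2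
  rw [h2, Pi.smul_apply, smul_eq_mul] at h1
  rw [hz, vec_apply]
  exact (mul_left_cancel₀ (by exact_mod_cast hd) h1).symm

theorem co0_sub (g : Co0) (x y : leechLattice) : g • (x - y) = g • x - g • y := by
  have hadd := g.2.1
  have ha : (g • (x - y) : leechLattice) + g • y = g • x := by
    have := hadd (x - y) y
    rw [sub_add_cancel] at this
    exact this.symm
  rw [← ha, add_sub_cancel_right]

theorem co0_neg (g : Co0) (x : leechLattice) : g • (-x) = -(g • x) := by
  have h0 : g • (0 : leechLattice) = 0 := by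
    have := co0_sub g 0 0
    rw [sub_self, sub_self] at this
    exact this
  have := co0_sub g 0 x
  rwa [zero_sub, h0, zero_sub] at this

/-- The digits of `c` (base 32, `n` of them), repacked in base 65536. -/
def wide : ℕ → ℕ → ℕ
  | 0, _ => 0
  | n + 1, c => force (c >>> 5) fun c' => c % 32 + wide n c' * 65536

/-- Linear combination of packed columns with the digits of `x` as coefficients. -/
def lin : List ℕ → ℕ → ℕ
  | [], _ => 0
  | w :: ws, x => force (x >>> 5) fun x' => (x % 32) * w + lin ws x'

/-- Sum of the first `n` digits. -/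
def sumd : ℕ → ℕ → ℕ
  | 0, _ => 0
  | n + 1, x => force (x >>> 5) fun x' => x % 32 + sumd n x'

/-- `ones n` has `n` digits 1 in base 65536. -/
def ones : ℕ → ℕ
  | 0 => 0
  | n + 1 => 1 + ones n * 65536

def packSum (n : ℕ) (a : ℕ → ℕ) : ℕ := ∑ k ∈ Finset.range n, a k * 65536 ^ k

theorem packSum_succ (n : ℕ) (a : ℕ → ℕ) : packSum (n + 1) a = a 0 + packSum n (fun k => a (k + 1)) * 65536 := by
  unfold packSum
  rw [Finset.sum_range_succ', Finset.sum_mul, add_comm]
  congr 1
  · ring
  · exact Finset.sum_congr rfl fun k _ => by ring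

theorem packSum_inj (n : ℕ) : ∀ a b : ℕ → ℕ, (∀ k < n, a k < 65536) → (∀ k < n, b k < 65536) →
    packSum n a = packSum n b → ∀ k < n, a k = b k := by
  induction n with
  | zero => intro a b _ _ _ k hk; exact absurd hk (Nat.not_lt_zero k)
  | succ n ih =>
    intro a b ha hb h k hk
    rw [packSum_succ, packSum_succ] at h
    have h0 := ha 0 (Nat.succ_pos n)
    have h0' := hb 0 (Nat.succ_pos n)
    have h1 : a 0 = b 0 := by omega
    have h2 : packSum n (fun k => a (k + 1)) = packSum n (fun k => b (k + 1)) := by omega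
    cases k with
    | zero => exact h1
    | succ k =>
      exact ih _ _ (fun k hk => ha (k + 1) (Nat.succ_lt_succ hk)) (fun k hk => hb (k + 1) (Nat.succ_lt_succ hk)) h2 k
        (Nat.lt_of_succ_lt_succ hk)

theorem packSum_add (n : ℕ) (a b : ℕ → ℕ) : packSum n (fun k => a k + b k) = packSum n a + packSum n b := by
  unfold packSum
  rw [← Finset.sum_add_distrib]
  exact Finset.sum_congr rfl fun k _ => by ring

theorem packSum_mul (n c : ℕ) (a : ℕ → ℕ) : packSum n (fun k => c * a k) = c * packSum n a := by
  unfold packSum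
  rw [Finset.mul_sum]
  exact Finset.sum_congr rfl fun k _ => by ring

theorem wide_eq (n : ℕ) : ∀ c : ℕ, wide n c = packSum n (fun k => dig c k) := by
  induction n with
  | zero => intro c; rfl
  | succ n ih =>
    intro c
    rw [packSum_succ, wide, force_eq, ih, dig_zero]
    congr 3
    funext k
    exact dig_shift c k

theorem sumd_eq (n : ℕ) : ∀ x : ℕ, sumd n x = ∑ j ∈ Finset.range n, dig x j := by
  induction n with
  | zero => intro x; rfl
  | succ n ih =>
    intro x
    rw [Finset.sum_range_succ', sumd, force_eq, ih, dig_zero, add_comm]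
    congr 1
    exact Finset.sum_congr rfl fun k _ => dig_shift x k

theorem ones_eq (n : ℕ) : ones n = packSum n (fun _ => 1) := by
  induction n with
  | zero => rfl
  | succ n ih => rw [packSum_succ, ones, ih]

theorem lin_eq (A : List ℕ) : ∀ x : ℕ, lin (A.map (wide 24)) x =
    packSum 24 (fun k => ∑ j ∈ Finset.range A.length, dig x j * dig (A.getD j 0) k) := by
  induction A with
  | nil => intro x; simp [lin, packSum]
  | cons a A ih =>
    intro x
    rw [List.map_cons, lin, force_eq, ih, wide_eq, ← packSum_mul, ← packSum_add]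
    congr 1
    funext k
    rw [List.length_cons, Finset.sum_range_succ', add_comm]
    congr 1
    exact Finset.sum_congr rfl fun j _ => by rw [dig_shift]; rfl

theorem sum_wide (A : List ℕ) : (A.map (wide 24)).sum =
    packSum 24 (fun k => ∑ j ∈ Finset.range A.length, dig (A.getD j 0) k) := by
  induction A with
  | nil => simp [packSum]
  | cons a A ih =>
    rw [List.map_cons, List.sum_cons, ih, wide_eq, ← packSum_add]
    congr 1
    funext k
    rw [List.length_cons, Finset.sum_range_succ', add_comm]
    rfl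

/-- The packed check. `W` are the packed columns, `s` is 16 times their sum. -/
def sendsW (d : ℕ) (W : List ℕ) (s b y : ℕ) : Bool :=
  Nat.beq (lin W b + (6144 + 16 * d) * 0x100010001000100010001000100010001000100010001000100010001000100010001000100010001000100010001)
    (s + (16 * sumd 24 b) * 0x100010001000100010001000100010001000100010001000100010001000100010001000100010001000100010001 + d * wide 24 y)

theorem sends_of_sendsW {d : ℕ} {A W : List ℕ} {s : ℕ} (hA : A.length = 24) (hd : d ≤ 8) (hW : A.map (wide 24) = W)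
    (hs : s = 16 * W.sum) {b y : ℕ} (h : sendsW d W s b y = true) : sends d A b y = true := by
  have h1 := Nat.eq_of_beq_eq_true h
  have hones : (0x100010001000100010001000100010001000100010001000100010001000100010001000100010001000100010001 : ℕ) =
      packSum 24 (fun _ => 1) := by
    rw [← ones_eq]
    decide +kernel
  rw [hones, hs, ← hW, lin_eq, sum_wide, ← packSum_mul, ← packSum_mul, ← packSum_mul, wide_eq, ← packSum_mul,
    ← packSum_add, ← packSum_add, ← packSum_add, hA] at h1
  have hdig : ∀ c k, dig c k ≤ 31 := fun c k => Nat.le_of_lt_succ (dig_lt c k)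
  have hb1 : ∀ k, ∑ j ∈ Finset.range 24, dig b j * dig (A.getD j 0) k ≤ 24 * 961 := by
    intro k
    calc ∑ j ∈ Finset.range 24, dig b j * dig (A.getD j 0) k ≤ ∑ _j ∈ Finset.range 24, 31 * 31 :=
          Finset.sum_le_sum fun j _ => Nat.mul_le_mul (hdig _ _) (hdig _ _)
      _ = 24 * 961 := by simp
  have hb2 : ∀ k, ∑ j ∈ Finset.range 24, dig (A.getD j 0) k ≤ 24 * 31 := by
    intro k
    calc ∑ j ∈ Finset.range 24, dig (A.getD j 0) k ≤ ∑ _j ∈ Finset.range 24, 31 :=
          Finset.sum_le_sum fun j _ => hdig _ _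
      _ = 24 * 31 := by simp
  have hb3 : sumd 24 b ≤ 24 * 31 := by
    rw [sumd_eq]
    calc ∑ j ∈ Finset.range 24, dig b j ≤ ∑ _j ∈ Finset.range 24, 31 :=
          Finset.sum_le_sum fun j _ => hdig _ _
      _ = 24 * 31 := by simp
  have h2 := packSum_inj 24 _ _ (fun k _ => by
    have := hb1 k
    omega) (fun k _ => by
    have := hb2 k
    have := hdig y k
    have : d * dig y k ≤ 8 * 31 := Nat.mul_le_mul hd this
    omega) h1
  unfold sends
  rw [allTo_iff]
  intro k hk
  rw [beq_iff_eq, mvAt_eq, hA]
  have h3 := h2 k hk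
  have h4 : ((∑ j ∈ Finset.range 24, dig b j * dig (A.getD j 0) k : ℕ) : ℤ) + (6144 + 16 * d) * 1 =
      16 * ((∑ j ∈ Finset.range 24, dig (A.getD j 0) k : ℕ) : ℤ) + 16 * ((∑ j ∈ Finset.range 24, dig b j : ℕ) : ℤ) * 1 +
        d * (dig y k : ℤ) := by
    rw [sumd_eq] at h3
    exact_mod_cast h3
  have h5 : ∑ j ∈ Finset.range 24, sdig b j * sdig (A.getD j 0) k =
      ((∑ j ∈ Finset.range 24, dig b j * dig (A.getD j 0) k : ℕ) : ℤ) -
        16 * ((∑ j ∈ Finset.range 24, dig b j : ℕ) : ℤ) - 16 * ((∑ j ∈ Finset.range 24, dig (A.getD j 0) k : ℕ) : ℤ) +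
          6144 := by
    push_cast
    rw [Finset.mul_sum, Finset.mul_sum, ← Finset.sum_sub_distrib, ← Finset.sum_sub_distrib]
    have : (6144 : ℤ) = ∑ _j ∈ Finset.range 24, (256 : ℤ) := by simp
    rw [this, ← Finset.sum_add_distrib]
    refine Finset.sum_congr rfl fun j _ => ?_
    unfold sdig
    ring
  rw [h5]
  unfold sdig
  linarith

end Cfsg.Agent.LeechPack.Core
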