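import Mathlib
import Cfsg.Agent.LeechPack.Core
import Cfsg.Agent.S0405
import Cfsg.Agent.S1583
import Cfsg.Prelude.Def_Spor_Conway
import Cfsg.Agent.Prune
set_option linter.all false
prune_inst 0x7f00000000000000000000000000000000000000000000000000000000000000000000000000000000000000000000000000000000000000000000000000000000000000000000000000000000000000003fffffffffffffffffffffffffffbeffbdffffffff
open scoped Cfsg.Agent.FastGrp

/-!
The 100 minimal vectors `x` of the Leech lattice with `x · u0 = 24`, `x · w0 = 0` (`u0 = (5, 1^23)`,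
`w0 = (4, -4, 0^22)`) as an explicit table, the action of the Higman-Sims group `G2` (joint stabiliser of `u0` and `w0`)
on them as an injective homomorphism `ψ` to the permutations of `Fin 100`, and `Spor.IsoHS G2`.
-/

set_option autoImplicit false

namespace Cfsg.Agent.LeechPack.X100

open Cfsg Cfsg.Agent.LeechMat.Code Cfsg.Agent.LeechMat.Core Cfsg.Agent.LeechMat.Elements
  Cfsg.Agent.SporadicStructure.PermChain Cfsg.Agent.LeechPack.Core

def cu0 : ℕ := 0xac6318c6318c6318c6318c6318c631
def cw0 : ℕ := 0xa4210842108421084210842108420c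

/-- `(5, 1^23)` -/
def u0 : leechLattice := ⟨vec cu0, isLeech_sound (by decide +kernel)⟩
/-- `(4, -4, 0^22)` -/
def w0 : leechLattice := ⟨vec cw0, isLeech_sound (by decide +kernel)⟩

theorem sqNorm_u0 : sqNorm (u0 : GolayPt → ℤ) = 48 := by
  rw [sqNorm_eq_dotInt]
  exact (dotc_eq cu0 cu0).symm.trans (by decide +kernel)
theorem sqNorm_w0 : sqNorm (w0 : GolayPt → ℤ) = 32 := by
  rw [sqNorm_eq_dotInt]
  exact (dotc_eq cw0 cw0).symm.trans (by decide +kernel)
theorem dot_u0_w0 : dotInt (u0 : GolayPt → ℤ) (w0 : GolayPt → ℤ) = 16 :=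
  (dotc_eq cu0 cw0).symm.trans (by decide +kernel)

/-- `w0 - u0`, a vector of norm 48. -/
def w1 : leechLattice := w0 - u0

theorem dot_w1 (x : GolayPt → ℤ) : dotInt (w1 : GolayPt → ℤ) x =
    dotInt (w0 : GolayPt → ℤ) x - dotInt (u0 : GolayPt → ℤ) x := by
  unfold dotInt
  rw [← Finset.sum_sub_distrib]
  refine Finset.sum_congr rfl fun i _ => ?_
  change ((w0 : GolayPt → ℤ) i - (u0 : GolayPt → ℤ) i) * _ = _
  ring

theorem dotInt_comm' (x y : GolayPt → ℤ) : dotInt x y = dotInt y x := by
  unfold dotInt
  exact Finset.sum_congr rfl fun i _ => mul_comm _ _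

theorem sqNorm_w1 : sqNorm (w1 : GolayPt → ℤ) = 48 := by
  have h := sqNorm_u0
  have h' := sqNorm_w0
  rw [sqNorm_eq_dotInt] at h h' ⊢
  rw [dot_w1, dotInt_comm' (w0 : GolayPt → ℤ), dotInt_comm' (u0 : GolayPt → ℤ), dot_w1, dot_w1, h, h', dot_u0_w0,
    dotInt_comm' (w0 : GolayPt → ℤ), dot_u0_w0]
  norm_num

theorem dot_u0_w1 : dotInt (u0 : GolayPt → ℤ) (w1 : GolayPt → ℤ) = -32 := by
  have h := sqNorm_u0
  rw [sqNorm_eq_dotInt] at h
  rw [dotInt_comm', dot_w1, h, dotInt_comm', dot_u0_w0]
  norm_num

/-- Codes of the 100 vectors (packed, 120 bits each), increasing. -/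
def tabX : ℕ := 0xa4210842108421084210842108421494a528421084a10942108421084a1294a50942508421084210842528421294a5084a108425084212942108421294a50842128421084a5084a108421294a50842109421284210842109425294a12942129421084210942108421294a1284a10842108421084a508425294a12842508425084250842109421294a12842108421284a12842128421294a1094a108421084a108421094a1294a109421084a1084252842108425294a1094210842529421084a108421294a1084a5284a1284210842108421294a1084a109421094250842128421294a1084250942108421284a1084a1294a10842508421094a10942108425294a108421284250842108421284a5294a10842128421094212842509421294a108421094a5084a10842508421294a108421084a108421094a129421294a108421084212842509425084a129425294a10842128425084210842129425284252842108421284210842529425284210942508421084a128421294252842108421084a109425094212942509421284a5084210842109421294250942109421094a1284210842129425094210842108421094a1084a529425084a50842109421084a10942129425084a1294210842108425084a129425084a1084a1084a108421284252942508425094a1084250942108421294250842508425284a108421084a129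42508421284212942109421284212942508421084a128421284a5084212942508421084250942508425084252942508421084210842528421294a12942129425084a1084a1084a1084212942129421084250842128425084a129421294210842109421084212942529421284a5084210842109421284a129421284a128425094a1084210842129421284a1094a10842128421094212942128425094212942108425084212942128421284a108425084252842129421284212842128421084a1094a1294212842109421084a508421084a52942128421084a528421094210842529421284210842109425294a10842129421094a50942508421084210842529421094a12842108421284a12842129421094a1084a10942109425084212942109425284210942508421084a1294210942508421284212942109421294210942128421284a108425084252942109421094a12842108421284a129421094210942108425084a509421294210942108425084a5094212842129421084a508421084a5284250842129421084a12842108425094210942529421084a109421284a1094a10842129421084a1084a508425084a1084a129421084a10842528421084252942129421084a1084212942128421084a5294210842529421084a1084212942129421084252842508421094a5084212942108425084a50942128421284212942108425084a10842108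425094a529421084250842128425084a1284252942108421294a109421084a1084252942108421294252842528421084212942108421284a1084a129421084a12942108421094250942109421094a12942108421094210842129425284252942108421084a1294a50842109421294210842108425084a1284a109425294210842108421094a1084a5284a128c6318c6318c6318c6318c6318c5b18c6318c6318c6318c6318c6318b6318c6318c6318c6318c6318c6316c6318c6318c6318c6318c6318c62d8c6318c6318c6318c6318c6318c5b18c6318c6318c6318c6318c6318b6318c6318c6318c6318c6318c6316c6318c6318c6318c6318c6318c62d8c6318c6318c6318c6318c6318c5b18c6318c6318c6318c6318c6318b6318c6318c6318c6318c6318c6316c6318c6318c6318c6318c6318c62d8c6318c6318c6318c6318c6318c5b18c6318c6318c6318c6318c6318b6318c6318c6318c6318c6318c6316c6318c6318c6318c6318c6318c62d8c6318c6318c6318c6318c6318c5b18c6318c6318c6318c6318c6318b6318c6318c6318c6318c6318c6316c6318c6318c6318c6318c6318c62d8c6318c6318c6318c6318c6318c5b18c6318c6318c6318c6318c6318b6318c6318c6318c6318c6318c631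

theorem leechX : allBelow (fun i => isLeech (look 120 tabX i)) 100 = true := by decide +kernel

/-- The 100 vectors. -/
def X (i : Fin 100) : leechLattice :=
  ⟨vec (look 120 tabX i), isLeech_sound (allBelow_spec _ _ leechX i i.2)⟩

theorem coe_X (i : Fin 100) : (X i : GolayPt → ℤ) = vec (look 120 tabX i) := rfl

def dotsX : Bool := allBelow (fun i => dotc (look 120 tabX i) (look 120 tabX i) == 32 &&
  (dotc cu0 (look 120 tabX i) == 24 && dotc cw0 (look 120 tabX i) == 0)) 100

theorem dotsX_eq : dotsX = true := by decide +kernel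

theorem dots_spec (i : Fin 100) : sqNorm (X i : GolayPt → ℤ) = 32 ∧
    dotInt (u0 : GolayPt → ℤ) (X i : GolayPt → ℤ) = 24 ∧ dotInt (w0 : GolayPt → ℤ) (X i : GolayPt → ℤ) = 0 := by
  have h := allBelow_spec _ _ dotsX_eq i i.2
  rw [Bool.and_eq_true, Bool.and_eq_true, beq_iff_eq, beq_iff_eq, beq_iff_eq] at h
  refine ⟨?_, ?_, ?_⟩
  · rw [sqNorm_eq_dotInt, coe_X, ← dotc_eq]
    exact h.1
  · exact (dotc_eq cu0 _).symm.trans h.2.1
  · exact (dotc_eq cw0 _).symm.trans h.2.2

def sortedX : Bool := allBelow (fun i => Nat.blt (look 120 tabX i) (look 120 tabX (i + 1))) 99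

theorem sortedX_eq : sortedX = true := by decide +kernel

theorem look_lt {i j : ℕ} (hij : i < j) (hj : j < 100) : look 120 tabX i < look 120 tabX j := by
  induction j with
  | zero => exact absurd hij (Nat.not_lt_zero i)
  | succ j ih =>
    have h1 := allBelow_spec _ _ sortedX_eq j (by omega)
    rw [Nat.blt_eq] at h1
    rcases Nat.lt_succ_iff_lt_or_eq.1 hij with h | h
    · exact (ih h (by omega)).trans h1
    · rw [h]; exact h1

theorem X_injective : Function.Injective X := by
  have key : ∀ i j : Fin 100, i < j → X i ≠ X j := by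
    intro i j hij hX
    have h1 := congrArg (fun z : leechLattice => (z : GolayPt → ℤ)) hX
    change vec _ = vec _ at h1
    have h2 := look_lt (show (i : ℕ) < j from hij) j.2
    have h3 : look 120 tabX i = look 120 tabX j :=
      code_inj (Nat.mod_lt _ (by norm_num)) (Nat.mod_lt _ (by norm_num)) h1
    exact absurd h3 (Nat.ne_of_lt h2)
  intro i j hij
  rcases lt_trichotomy i j with h | h | h
  · exact absurd hij (key i j h)
  · exact h
  · exact absurd hij.symm (key j i h)

/-- The set of the 100 vectors, as in S1583. -/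
def S : Set leechLattice := {x : ↥Cfsg.leechLattice | Cfsg.sqNorm (x : Cfsg.GolayPt → ℤ) = 32 ∧
  Cfsg.dotInt (u0 : Cfsg.GolayPt → ℤ) (x : Cfsg.GolayPt → ℤ) = 24 ∧
  Cfsg.dotInt (w1 : Cfsg.GolayPt → ℤ) (x : Cfsg.GolayPt → ℤ) = -24}

theorem X_mem (i : Fin 100) : X i ∈ S := by
  obtain ⟨h1, h2, h3⟩ := dots_spec i
  refine ⟨h1, h2, ?_⟩
  rw [dot_w1, h2, h3]
  norm_num

theorem ncard_S : S.ncard = 100 := (S1583.result u0 w1 sqNorm_u0 sqNorm_w1 dot_u0_w1).1

theorem range_X : Set.range X = S := by
  apply Set.eq_of_subset_of_ncard_le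
  · rintro _ ⟨i, rfl⟩
    exact X_mem i
  · rw [ncard_S, ← Set.image_univ, Set.ncard_image_of_injective _ X_injective, Set.ncard_univ]
    simp
  · exact Set.finite_of_ncard_ne_zero (by rw [ncard_S]; norm_num)

/-- The joint stabiliser of `u0` and `w0`. -/
def G2 : Subgroup Co0 := MulAction.stabilizer Co0 u0 ⊓ MulAction.stabilizer Co0 w0

theorem G2_eq : MulAction.stabilizer Co0 u0 ⊓ MulAction.stabilizer Co0 w1 = G2 := by
  ext g
  constructor
  · rintro ⟨ha, hb⟩
    have ha' : g • u0 = u0 := ha
    have hb' : g • w1 = w1 := hb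
    rw [w1, co0_sub, ha'] at hb'
    exact ⟨ha, sub_left_injective hb'⟩
  · rintro ⟨ha, hb⟩
    have ha' : g • u0 = u0 := ha
    have hb' : g • w0 = w0 := hb
    refine ⟨ha, ?_⟩
    change g • w1 = w1
    rw [w1, co0_sub, ha', hb']

theorem isHS_G2 : IsHS G2 := by
  rw [← G2_eq]
  exact S0405.result u0 w1 sqNorm_u0 sqNorm_w1 dot_u0_w1

theorem card_G2 : Nat.card G2 = 44352000 := isHS_G2.2

instance : IsSimpleGroup G2 := isHS_G2.1

instance : Finite G2 := Nat.finite_of_card_ne_zero (by rw [card_G2]; norm_num)

theorem dot_smul (g : Co0) (x y : leechLattice) :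
    dotInt ((g • x : leechLattice) : GolayPt → ℤ) ((g • y : leechLattice) : GolayPt → ℤ) =
      dotInt (x : GolayPt → ℤ) (y : GolayPt → ℤ) := by
  have h4 := g.2.2 (x - y)
  change sqNorm ((g • (x - y) : leechLattice) : GolayPt → ℤ) = _ at h4
  rw [co0_sub] at h4
  change sqNorm (((g • x : leechLattice) : GolayPt → ℤ) - ((g • y : leechLattice) : GolayPt → ℤ)) =
    sqNorm ((x : GolayPt → ℤ) - (y : GolayPt → ℤ)) at h4
  rw [sqNorm_sub, sqNorm_sub] at h4
  have h6 : sqNorm ((g • x : leechLattice) : GolayPt → ℤ) = sqNorm (x : GolayPt → ℤ) := g.2.2 x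
  have h7 : sqNorm ((g • y : leechLattice) : GolayPt → ℤ) = sqNorm (y : GolayPt → ℤ) := g.2.2 y
  rw [h6, h7] at h4
  linarith

theorem smul_mem_S (g : G2) {x : leechLattice} (hx : x ∈ S) : (g : Co0) • x ∈ S := by
  have hu : (g : Co0) • u0 = u0 := g.2.1
  have hw : (g : Co0) • w1 = w1 := by
    have h0 : (g : Co0) ∈ MulAction.stabilizer Co0 u0 ⊓ MulAction.stabilizer Co0 w1 := by
      rw [G2_eq]; exact g.2
    exact h0.2
  obtain ⟨h1, h2, h3⟩ := hx
  refine ⟨?_, ?_, ?_⟩
  · rw [← h1]
    exact (g : Co0).2.2 x
  · rw [← h2]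
    conv_lhs => rw [← hu]
    exact dot_smul g u0 x
  · rw [← h3]
    conv_lhs => rw [← hw]
    exact dot_smul g w1 x

theorem exists_X {x : leechLattice} (hx : x ∈ S) : ∃ i, X i = x := by
  rwa [← range_X] at hx

/-- The permutation of the 100 vectors induced by an element of `G2`. -/
noncomputable def ψ : G2 →* Equiv.Perm (Fin 100) :=
  MonoidHom.toHomPerm
    { toFun := fun g i => (exists_X (smul_mem_S g (X_mem i))).choose
      map_one' := by
        funext i
        apply X_injective
        rw [(exists_X (smul_mem_S (1 : G2) (X_mem i))).choose_spec]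
        exact one_smul Co0 (X i)
      map_mul' := by
        intro g h
        funext i
        apply X_injective
        rw [(exists_X (smul_mem_S (g * h) (X_mem i))).choose_spec]
        change _ = X (exists_X (smul_mem_S g (X_mem (exists_X (smul_mem_S h (X_mem i))).choose))).choose
        rw [(exists_X (smul_mem_S g (X_mem _))).choose_spec, (exists_X (smul_mem_S h (X_mem i))).choose_spec]
        exact mul_smul (g : Co0) (h : Co0) (X i) }

theorem X_ψ (g : G2) (i : Fin 100) : X (ψ g i) = (g : Co0) • X i :=
  (exists_X (smul_mem_S g (X_mem i))).choose_spec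

theorem ψ_eq_of (g : G2) (τ : Equiv.Perm (Fin 100)) (h : ∀ i, (g : Co0) • X i = X (τ i)) : ψ g = τ :=
  Equiv.ext fun i => X_injective ((X_ψ g i).trans (h i))

theorem ψ_injective : Function.Injective ψ := by
  rw [← MonoidHom.ker_eq_bot_iff]
  rcases IsSimpleGroup.eq_bot_or_eq_top_of_normal (ψ.ker) inferInstance with h | h
  · exact h
  · exfalso
    obtain ⟨g, h1, h2, h3⟩ := (S1583.result u0 w1 sqNorm_u0 sqNorm_w1 dot_u0_w1).2 (X 0) (X_mem 0) (X 1) (X_mem 1)
    have hg : g ∈ G2 := by
      rw [← G2_eq]
      exact ⟨h1, h2⟩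
    have h4 : (⟨g, hg⟩ : G2) ∈ ψ.ker := by rw [h]; trivial
    have h5 := X_ψ ⟨g, hg⟩ 0
    rw [MonoidHom.mem_ker.1 h4] at h5
    have h6 : X 0 = X 1 := h5.trans h3
    exact absurd (X_injective h6) (by decide)

theorem allSends {d : ℕ} {A W : List ℕ} {s t : ℕ} (hA : A.length = 24) (hd : d ≤ 8) (hW : A.map (wide 24) = W)
    (hs : s = 16 * W.sum)
    (h : allBelow (fun i => sendsW d W s (look 120 tabX i) (look 120 tabX (look 7 t i))) 100 = true) :
    ∀ i : Fin 100, sends d A (look 120 tabX i) (look 120 tabX (look 7 t i)) = true :=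
  fun i => sends_of_sendsW hA hd hW hs (allBelow_spec _ _ h i i.2)

/-- Existence of an element of `G2` with given matrix and permutation of the 100 vectors. -/
theorem exists_gen_of {d : ℕ} (hd0 : d ≠ 0) {A ys : List ℕ} (hA : A.length = 24) (hd : d ≤ 8)
    (hc : checkMat d A ys = true) (hu : sends d A cu0 cu0 = true) (hw : sends d A cw0 cw0 = true)
    {W : List ℕ} {s t : ℕ} (hW : A.map (wide 24) = W) (hs : s = 16 * W.sum)
    (h : allBelow (fun i => sendsW d W s (look 120 tabX i) (look 120 tabX (look 7 t i))) 100 = true)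
    (τ : Equiv.Perm (Fin 100)) (hτ : ∀ i, (τ i : ℕ) = look 7 t i) : ∃ g : G2, ψ g = τ := by
  obtain ⟨g, hg⟩ := exists_co0 hc
  refine ⟨⟨g, smul_eq_of_sends hd0 hA hg hu u0 u0 rfl rfl, smul_eq_of_sends hd0 hA hg hw w0 w0 rfl rfl⟩,
    ψ_eq_of _ _ fun i => ?_⟩
  refine smul_eq_of_sends hd0 hA hg (allSends hA hd hW hs h i) _ _ rfl ?_
  rw [coe_X, hτ]

theorem coe_leechV : -u0 = Spor.leechV := by
  apply Subtype.ext
  funext p
  have : ∀ p, -vec cu0 p = Spor.vecV p := by decide +kernel
  exact this p

theorem coe_leechU' : w0 = Spor.leechU' := by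
  apply Subtype.ext
  funext p
  have : ∀ p, vec cw0 p = Spor.vecU' p := by decide +kernel
  exact this p

theorem map_G2 : G2.map Co0.subtype = Spor.HS := by
  ext f
  constructor
  · rintro ⟨g, ⟨h1, h2⟩, rfl⟩
    have h1' : g • u0 = u0 := h1
    have h2' : g • w0 = w0 := h2
    refine ⟨⟨g.2, ?_⟩, ?_⟩
    · rw [← coe_leechV]
      change g • (-u0) = -u0
      rw [co0_neg, h1']
    · rw [← coe_leechU']
      exact h2'
  · rintro ⟨⟨h0, h1⟩, h2⟩
    rw [← coe_leechV] at h1
    rw [← coe_leechU'] at h2
    have h1' : (⟨f, h0⟩ : Co0) • (-u0) = -u0 := h1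
    have h2' : (⟨f, h0⟩ : Co0) • w0 = w0 := h2
    rw [co0_neg, neg_inj] at h1'
    exact ⟨⟨f, h0⟩, ⟨h1', h2'⟩, rfl⟩

theorem isoHS_G2 : Spor.IsoHS G2 := by
  rw [Spor.IsoHS, ← map_G2]
  exact ⟨G2.equivMapOfInjective _ Co0.subtype_injective⟩

end Cfsg.Agent.LeechPack.X100

private theorem dce_741d4f663793 : _root_.True := by
  try have : _root_.True := by simp only [_root_.Cfsg.Agent.LeechPack.X100.w1.eq_1]
  try have : _root_.True := by simp only [_root_.Cfsg.Spor.IsoHS.eq_1]
  exact _root_.True.intro
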